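import Cfsg.Agent.Lib.Char.Induced
import Cfsg.Agent.Lib.Char.Linear
import Cfsg.Agent.Lib.Char.Virtual
import Cfsg.Agent.Lib.Char.Perm
import Cfsg.Agent.Lib.Char.Coherence
import Cfsg.Agent.Lib.Solvable.FPFNilpotent

/-!
# Linear exceptional characters attached to a TI Frobenius kernel
-/

set_option autoImplicit false

open scoped ComplexConjugate

namespace CfsgLib.Char.TICover

variable {G : Type*} [Group G] [Fintype G]

/-- `y` is conjugate to a non-identity element of `H`. -/
def InD (H : Subgroup G) (y : G) : Prop := y ≠ 1 ∧ ∃ x : G, x⁻¹ * y * x ∈ H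

omit [Fintype G] in
theorem InD.conj {H : Subgroup G} {y : G} (h : InD H y) (c : G) : InD H (c * y * c⁻¹) := by
  obtain ⟨hy, x, hx⟩ := h
  refine ⟨by simpa using hy, c * x, ?_⟩
  rwa [show (c * x)⁻¹ * (c * y * c⁻¹) * (c * x) = x⁻¹ * y * x by group]

/-- `L` is a Frobenius group with kernel `H`, and `H` is a trivial intersection set with
normaliser inside `L`. -/
structure Setting (H L : Subgroup G) : Prop where
  lt : H < L
  ne_bot : H ≠ ⊥
  norm : ∀ x ∈ L, ∀ a ∈ H, x⁻¹ * a * x ∈ H
  cent : ∀ a ∈ H, a ≠ 1 → ∀ x ∈ L, x * a = a * x → x ∈ H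
  ti : ∀ x a : G, a ∈ H → a ≠ 1 → x⁻¹ * a * x ∈ H → x ∈ L

/-- The exceptional family coming from the linear characters of the kernel. -/
structure Data (H L : Subgroup G) where
  m : ℕ
  e : ℕ
  q : ℕ
  t : ℤ
  T : G → ℂ
  w : Fin m → G → ℂ
  two_le : 2 ≤ m
  he : 3 ≤ e
  hq : q = m * e + 1
  q_dvd : q ∣ Nat.card H
  card_L : e * Nat.card H = Nat.card L
  genT : Cfsg.IsGeneralizedCharacter G T
  genw : ∀ k, Cfsg.IsGeneralizedCharacter G (w k)
  orth : ∀ k k', Cfsg.classInner (w k) (w k') = if k = k' then 1 else 0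
  w_deg : ∀ k k', w k 1 = w k' 1
  T_one : Cfsg.classInner T (fun _ => 1) = 1
  w_one : ∀ k, Cfsg.classInner (w k) (fun _ => 1) = 0
  T_real : ∀ y, conj (T y) = T y
  T_w : ∀ k, Cfsg.classInner T (w k) = (t : ℂ)
  T_T : Cfsg.classInner T T = ((e + 2 * t : ℤ) : ℂ)
  supp : ∀ k y, T y - w k y ≠ 0 → InD H y
  vol : ∀ [DecidablePred (InD H)],
    ((Finset.univ.filter (InD H)).card : ℝ) / Nat.card G =
      (1 - 1 / (Nat.card H : ℝ)) / (e : ℝ)
  dens : ∀ [DecidablePred (InD H)] (θ : G → ℂ), Cfsg.IsClassFunction G θ → ∀ c : Fin m → ℤ,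
    (∀ k, Cfsg.classInner (T - w k) θ = (c k : ℂ)) →
      ∑ k, (c k : ℝ) ^ 2 - (e : ℝ) * (∑ k, (c k : ℝ)) ^ 2 / (q : ℝ) ≤
        (∑ y ∈ Finset.univ.filter (InD H), ‖θ y‖ ^ 2) / (Nat.card G : ℝ)

namespace Setting

variable {H L : Subgroup G} (S : Setting H L)

/-- Conjugation of `H` by an element of `L`. -/
def conjH (x : L) : H →* H where
  toFun a := ⟨(x : G)⁻¹ * a * x, S.norm x x.2 a a.2⟩
  map_one' := Subtype.ext (by simp)
  map_mul' a b := Subtype.ext (by simp [mul_assoc])

theorem conjH_apply (x : L) (a : H) : (S.conjH x a : G) = (x : G)⁻¹ * a * x := rfl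

theorem conjH_mul (x y : L) : S.conjH (x * y) = (S.conjH y).comp (S.conjH x) := by
  ext a; simp [conjH_apply, mul_assoc]

theorem conjH_one : S.conjH 1 = MonoidHom.id H := by ext a; simp [conjH_apply]

theorem conjH_ne_one (x : L) {a : H} (ha : a ≠ 1) : S.conjH x a ≠ 1 := fun h => ha (by
  have h' := congrArg Subtype.val h
  rw [conjH_apply, Subgroup.coe_one] at h'
  refine Subtype.ext ?_
  rw [Subgroup.coe_one]
  calc (a : G) = (x : G) * ((x : G)⁻¹ * a * x) * (x : G)⁻¹ := by group
    _ = 1 := by rw [h']; simp)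

theorem isNilpotent (S : Setting H L) : Group.IsNilpotent H := by
  classical
  obtain ⟨x, hx, hxH⟩ := SetLike.exists_of_lt S.lt
  have hex : ∃ k, ∃ x : G, x ∈ L ∧ x ∉ H ∧ orderOf x = k := ⟨_, x, hx, hxH, rfl⟩
  obtain ⟨x, hx, hxH, hk⟩ := Nat.find_spec hex
  have hmin : ∀ y : G, y ∈ L → orderOf y < orderOf x → y ∈ H := fun y hy hlt => by
    by_contra hyH
    exact Nat.find_min hex (hk ▸ hlt) ⟨y, hy, hyH, rfl⟩
  have hx1 : x ≠ 1 := fun h => hxH (h ▸ H.one_mem)
  obtain ⟨p, hp, hpd⟩ := Nat.exists_prime_and_dvd (fun h => hx1 (orderOf_eq_one_iff.mp h))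
  have hxp : x ^ p = 1 := by
    by_contra hne
    have hlt : orderOf (x ^ p) < orderOf x := by
      rw [orderOf_pow_of_dvd hp.ne_zero hpd]
      exact Nat.div_lt_self (orderOf_pos x) hp.one_lt
    exact hxH (S.cent _ (hmin _ (pow_mem hx p) hlt) hne x hx ((Commute.self_pow x p).eq))
  have hnorm : x ∈ Subgroup.normalizer (H : Set G) := by
    refine Subgroup.mem_normalizer_iff.mpr fun a => ⟨fun ha => ?_, fun ha => ?_⟩
    · simpa using S.norm x⁻¹ (L.inv_mem hx) a ha
    · have := S.norm x hx _ ha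
      rwa [show x⁻¹ * (x * a * x⁻¹) * x = a by group] at this
  let α : MulAut H :=
    { toFun := S.conjH ⟨x⁻¹, L.inv_mem hx⟩
      invFun := S.conjH ⟨x, hx⟩
      left_inv := fun a => Subtype.ext (by simp [conjH_apply, mul_assoc])
      right_inv := fun a => Subtype.ext (by simp [conjH_apply, mul_assoc])
      map_mul' := map_mul _ }
  have hα : ∀ (k : ℕ) (a : H), ((α ^ k) a : G) = x ^ k * a * (x ^ k)⁻¹ := by
    intro k
    induction k with
    | zero => intro a; simp
    | succ k ih =>
      intro a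
      rw [pow_succ', MulAut.mul_apply]
      show (S.conjH ⟨x⁻¹, L.inv_mem hx⟩ ((α ^ k) a) : G) = _
      rw [conjH_apply, ih, pow_succ']
      simp [mul_assoc]
  refine Solvable.FPFNilpotent.isNilpotent_of_mulAut hp α ?_ fun a ha => ?_
  · ext a; rw [hα, hxp]; simp
  · by_contra hne
    have h := hα 1 a
    rw [pow_one, pow_one, ha] at h
    refine hxH (S.cent a a.2 (fun h' => hne (Subtype.ext h')) x hx ?_)
    calc x * a = (x * a * x⁻¹) * x := by group
      _ = a * x := by rw [← h]

theorem exists_hom_ne_one (S : Setting H L) : ∃ l : H →* ℂˣ, l ≠ 1 := by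
  classical
  haveI := S.isNilpotent
  haveI : Nontrivial H := (Subgroup.nontrivial_iff_ne_bot H).mpr S.ne_bot
  have hlt : commutator H < ⊤ := Group.IsSolvable.commutator_lt_top_of_nontrivial H
  haveI : Finite (H →* ℂˣ) := Finite.of_equiv _ homEquivLinear.symm
  have hcard : Nat.card (H →* ℂˣ) = (commutator H).index :=
    (Nat.card_congr homEquivLinear).trans card_linear
  by_contra hc
  push Not at hc
  have : Subsingleton (H →* ℂˣ) := ⟨fun a b => (hc a).trans (hc b).symm⟩
  rw [Nat.card_of_subsingleton 1] at hcard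
  exact hlt.ne (Subgroup.index_eq_one.mp hcard.symm)

theorem eq_one_of_comp_eq [Finite G] {x : L} (hx : (x : G) ∉ H) {l : H →* ℂˣ}
    (h : l.comp (S.conjH x) = l) : l = 1 := by
  let ψ : H → H := fun a => a⁻¹ * S.conjH x a
  have hinj : Function.Injective ψ := by
    intro a b hab
    by_contra hne
    have h' : b * a⁻¹ = S.conjH x (b * a⁻¹) := by
      rw [map_mul, map_inv]
      calc b * a⁻¹ = b * ψ a * (S.conjH x a)⁻¹ := by simp [ψ, mul_assoc]
        _ = b * ψ b * (S.conjH x a)⁻¹ := by rw [hab]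
        _ = S.conjH x b * (S.conjH x a)⁻¹ := by simp [ψ]
    have h'' := congrArg Subtype.val h'
    rw [conjH_apply] at h''
    refine hx (S.cent (b * a⁻¹ : H) (b * a⁻¹ : H).2
      (fun e => hne (mul_inv_eq_one.mp (Subtype.ext e : b * a⁻¹ = 1)).symm) x x.2 ?_)
    generalize ((b * a⁻¹ : H) : G) = z at h'' ⊢
    calc (x : G) * z = (x : G) * ((x : G)⁻¹ * z * x) := by rw [← h'']
      _ = z * x := by group
  refine MonoidHom.ext fun a => ?_
  obtain ⟨b, rfl⟩ := Finite.injective_iff_surjective.mp hinj a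
  have hb := DFunLike.congr_fun h b
  rw [MonoidHom.comp_apply] at hb
  simp [ψ, hb]

theorem indFun_apply [Fintype L] {f : H → ℂ} {a : H} (ha : a ≠ 1) :
    Cfsg.indFun H f a = (Nat.card H : ℂ)⁻¹ * ∑ x : L, f (S.conjH x a) := by
  classical
  rw [indFun_def, ← Finset.sum_filter_of_ne (s := (Finset.univ : Finset G))
    (p := fun x : G => x ∈ L)]
  · rw [Finset.sum_subtype (p := fun x : G => x ∈ L) (Finset.univ.filter fun x : G => x ∈ L)
      (fun x => by simp) (fun x => Cfsg.extendByZero H f (x⁻¹ * (a : G) * x))]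
    congr 1
    exact Finset.sum_congr rfl fun x _ =>
      extendByZero_apply_mem H f (S.norm x x.2 a a.2)
  · intro x _ hx
    refine S.ti x a a.2 (fun h => ha (Subtype.ext h)) ?_
    by_contra hn
    exact hx (extendByZero_apply_notMem H f hn)

theorem classInner_indFun_indFun [Fintype H] [Fintype L] (f : H → ℂ) {f' : H → ℂ}
    (h1 : f' 1 = 0) : Cfsg.classInner (Cfsg.indFun H f) (Cfsg.indFun H f') =
      (Nat.card H : ℂ)⁻¹ * ∑ x : L, Cfsg.classInner f (fun a => f' (S.conjH x a)) := by
  have : (fun a : H => Cfsg.indFun H f' a) =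
      (Nat.card H : ℂ)⁻¹ • ∑ x : L, fun a => f' (S.conjH x a) := by
    funext a
    rw [Pi.smul_apply, Finset.sum_apply, smul_eq_mul]
    by_cases ha : a = 1
    · subst ha; simp [indFun_one, h1]
    · exact S.indFun_apply ha
  rw [classInner_indFun H f (indFun_isClassFunction H f'), this, classInner_smul_right,
    classInner_sum_right]
  simp

/-- The basic virtual character attached to a linear character. -/
noncomputable def beta (_ : Setting H L) (l : H →* ℂˣ) : G → ℂ :=
  Cfsg.indFun H fun a : H => 1 - (l a : ℂ)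

omit S in
theorem isGen_one_sub [Fintype H] (l : H →* ℂˣ) :
    Cfsg.IsGeneralizedCharacter H fun a : H => 1 - (l a : ℂ) :=
  ⟨_, _, isCharacter_one, isCharacter_hom l, rfl⟩

theorem card_fibre [Fintype L] {l l' : H →* ℂˣ} (hl' : l' ≠ 1) {x₀ : L}
    (hx₀ : l'.comp (S.conjH x₀) = l) [DecidablePred fun x : L => l'.comp (S.conjH x) = l] :
    (Finset.univ.filter fun x : L => l'.comp (S.conjH x) = l).card = Nat.card H := by
  cases nonempty_fintype H
  rw [Nat.card_eq_fintype_card, ← Finset.card_univ]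
  symm
  refine Finset.card_bij (fun a _ => x₀ * ⟨(a : G), S.lt.le a.2⟩) (fun a _ => ?_)
    (fun a _ b _ h => ?_) fun x hx => ?_
  · rw [Finset.mem_filter]
    refine ⟨Finset.mem_univ _, ?_⟩
    rw [conjH_mul, ← hx₀]
    refine MonoidHom.ext fun b => ?_
    have : S.conjH ⟨(a : G), S.lt.le a.2⟩ (S.conjH x₀ b) = a⁻¹ * S.conjH x₀ b * a :=
      Subtype.ext (by simp [conjH_apply])
    simp only [MonoidHom.comp_apply, this, map_mul, map_inv]
    rw [mul_comm, ← mul_assoc, mul_inv_cancel, one_mul]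
  · exact Subtype.ext (Subtype.mk.inj (mul_left_cancel h))
  · rw [Finset.mem_filter] at hx
    have hmem : ((x₀⁻¹ * x : L) : G) ∈ H := by
      by_contra hn
      refine hl' (S.eq_one_of_comp_eq hn ?_)
      rw [conjH_mul, ← MonoidHom.comp_assoc, hx.2, ← hx₀, MonoidHom.comp_assoc,
        ← conjH_mul, inv_mul_cancel, conjH_one, MonoidHom.comp_id]
    refine ⟨⟨_, hmem⟩, Finset.mem_univ _, ?_⟩
    show x₀ * (x₀⁻¹ * x) = x
    group

theorem classInner_beta [Fintype H] [Fintype L] {l l' : H →* ℂˣ} (hl : l ≠ 1) (hl' : l' ≠ 1)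
    [Decidable (∃ x : L, l'.comp (S.conjH x) = l)] :
    Cfsg.classInner (S.beta l) (S.beta l') = ((Nat.card L : ℂ) / Nat.card H) +
      if ∃ x : L, l'.comp (S.conjH x) = l then 1 else 0 := by
  classical
  rw [beta, beta, S.classInner_indFun_indFun _ (by simp)]
  have key : ∀ x : L, Cfsg.classInner (fun a : H => 1 - (l a : ℂ))
      (fun a : H => 1 - (l' (S.conjH x a) : ℂ)) =
        1 + if l'.comp (S.conjH x) = l then 1 else 0 := by
    intro x
    have hne : l'.comp (S.conjH x) ≠ 1 := fun h => hl' (MonoidHom.ext fun a => by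
      have hax : S.conjH x (S.conjH x⁻¹ a) = a := Subtype.ext (by simp [conjH_apply, mul_assoc])
      rw [← hax]
      exact DFunLike.congr_fun h _)
    have h1 : (fun a : H => 1 - (l a : ℂ)) = (fun _ => 1) - fun a : H => (l a : ℂ) := rfl
    have h2 : (fun a : H => 1 - (l' (S.conjH x a) : ℂ)) =
        (fun _ => 1) - fun a : H => ((l'.comp (S.conjH x)) a : ℂ) := rfl
    have hone : ∀ k : H →* ℂˣ, k ≠ 1 → (fun a : H => (k a : ℂ)) ≠ fun _ => 1 :=
      fun k hk h => hk (coe_hom_injective (h.trans (by ext; simp)))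
    rw [h1, h2, classInner_irr_sub isIrrCharacter_one (isIrrCharacter_hom l) isIrrCharacter_one
      (isIrrCharacter_hom _), if_pos rfl, if_neg (Ne.symm (hone _ hne)), if_neg (hone _ hl)]
    by_cases h : l'.comp (S.conjH x) = l
    · rw [if_pos h, h, if_pos rfl]; ring
    · rw [if_neg h, if_neg fun e => h (coe_hom_injective e).symm]; ring
  rw [Finset.sum_congr rfl fun x _ => key x, Finset.sum_add_distrib, Finset.sum_boole,
    Finset.sum_const, Finset.card_univ, nsmul_eq_mul, mul_one, ← Nat.card_eq_fintype_card,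
    mul_add, inv_mul_eq_div, inv_mul_eq_div]
  congr 1
  split_ifs with h
  · obtain ⟨x₀, hx₀⟩ := h
    have hbij := S.card_fibre hl' hx₀
    rw [hbij, div_self (Nat.cast_ne_zero.mpr Nat.card_pos.ne')]
  · rw [Finset.filter_false_of_mem fun x _ hx => h ⟨x, hx⟩]
    simp

theorem beta_one (l : H →* ℂˣ) : S.beta l 1 = 0 := by simp [beta, indFun_one]

theorem conj_beta (l : H →* ℂˣ) : (fun y => conj (S.beta l y)) = S.beta l⁻¹ := by
  cases nonempty_fintype H
  rw [beta, beta, ← indFun_conj]
  congr 1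
  funext a
  have := IsCharacter.apply_inv (isCharacter_hom l) a
  simp only [map_inv] at this
  simp [← this]

theorem beta_supp {l : H →* ℂˣ} {y : G} (h : S.beta l y ≠ 0) : InD H y := by
  refine ⟨fun e => h (e ▸ S.beta_one l), ?_⟩
  by_contra hc
  push Not at hc
  exact h (indFun_eq_zero_of_forall H _ hc)

theorem exists_data (S : Setting H L) [Fintype H] [Fintype L] (hodd : Odd (Nat.card G)) : Nonempty (Data H L) := by
  classical
  haveI : Finite (H →* ℂˣ) := Finite.of_equiv _ homEquivLinear.symm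
  cases nonempty_fintype (H →* ℂˣ)
  obtain ⟨e, he⟩ : Nat.card H ∣ Nat.card L := Subgroup.card_dvd_of_le S.lt.le
  have hHpos : 0 < Nat.card H := Nat.card_pos
  have hH0 : (Nat.card H : ℂ) ≠ 0 := Nat.cast_ne_zero.mpr hHpos.ne'
  have heq : ((Nat.card L : ℂ) / Nat.card H) = (e : ℂ) := by
    rw [he, Nat.cast_mul, mul_div_cancel_left₀ _ hH0]
  have hLodd : Odd (Nat.card L) :=
    hodd.of_dvd_nat (Subgroup.card_subgroup_dvd_card L)
  have he3 : 3 ≤ e := by
    have hne1 : e ≠ 1 := fun h => S.lt.ne (Subgroup.eq_of_le_of_card_ge S.lt.le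
      (by rw [he, h, mul_one]))
    have heo : Odd e := hLodd.of_dvd_nat (he ▸ Dvd.intro_left _ rfl)
    obtain ⟨k, hk⟩ := heo
    omega
  set Λ := (Finset.univ : Finset (H →* ℂˣ)).filter (fun l => l ≠ 1) with hΛ
  have hΛmem : ∀ l, l ∈ Λ ↔ l ≠ 1 := fun l => by simp [hΛ]
  set B := Λ.image S.beta with hB
  have hR : ∀ l l' : H →* ℂˣ, l ≠ 1 → l' ≠ 1 →
      (S.beta l = S.beta l' ↔ ∃ x : L, l'.comp (S.conjH x) = l) := by
    intro l l' hl hl'
    have hsym : (∃ x : L, l'.comp (S.conjH x) = l) → ∃ x : L, l.comp (S.conjH x) = l' := by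
      rintro ⟨x, rfl⟩
      exact ⟨x⁻¹, by rw [MonoidHom.comp_assoc, ← conjH_mul, inv_mul_cancel, conjH_one,
        MonoidHom.comp_id]⟩
    refine ⟨fun h => ?_, fun h => ?_⟩
    · by_contra hc
      have h1 := S.classInner_beta hl hl'
      rw [← h, S.classInner_beta hl hl, if_neg hc,
        if_pos ⟨1, by rw [conjH_one, MonoidHom.comp_id]⟩] at h1
      norm_num at h1
    · refine sub_eq_zero.mp (classInner_self_eq_zero.mp ?_)
      rw [classInner_sub_left, classInner_sub_right, classInner_sub_right,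
        S.classInner_beta hl hl, S.classInner_beta hl hl', S.classInner_beta hl' hl,
        S.classInner_beta hl' hl', if_pos h, if_pos (hsym h),
        if_pos ⟨1, by rw [conjH_one, MonoidHom.comp_id]⟩,
        if_pos ⟨1, by rw [conjH_one, MonoidHom.comp_id]⟩]
      ring
  -- fibres have `e` elements
  have hfib : ∀ b ∈ B, (Λ.filter fun l => S.beta l = b).card = e := by
    intro b hb
    obtain ⟨l, hl, rfl⟩ := Finset.mem_image.mp hb
    rw [hΛmem] at hl
    set C := Λ.filter fun l' => S.beta l' = S.beta l with hC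
    have hmaps : ∀ x ∈ (Finset.univ : Finset L), l.comp (S.conjH x) ∈ C := fun x _ => by
      have hne : l.comp (S.conjH x) ≠ 1 := fun h => hl (MonoidHom.ext fun a => by
        have hax : S.conjH x (S.conjH x⁻¹ a) = a := Subtype.ext (by simp [conjH_apply, mul_assoc])
        rw [← hax]
        exact DFunLike.congr_fun h _)
      rw [hC, Finset.mem_filter, hΛmem]
      exact ⟨hne, (hR _ _ hne hl).mpr ⟨x, rfl⟩⟩
    have hcard := Finset.card_eq_sum_card_fiberwise (f := fun x : L => l.comp (S.conjH x)) hmaps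
    rw [Finset.sum_congr rfl fun l' hl' => ?_, Finset.sum_const, smul_eq_mul, Finset.card_univ,
      ← Nat.card_eq_fintype_card, he, mul_comm] at hcard
    · exact (Nat.eq_of_mul_eq_mul_right hHpos hcard).symm
    · rw [hC, Finset.mem_filter, hΛmem] at hl'
      obtain ⟨x₀, hx₀⟩ := (hR _ _ hl'.1 hl).mp hl'.2
      exact S.card_fibre hl hx₀
  have hgroup : ∀ (F : (G → ℂ) → ℂ),
      ∑ l ∈ Λ, F (S.beta l) = (e : ℂ) * ∑ b ∈ B, F b := by
    intro F
    rw [Finset.sum_comp F S.beta, Finset.mul_sum]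
    exact Finset.sum_congr rfl fun b hb => by rw [hfib b hb, nsmul_eq_mul]
  set q := Fintype.card (H →* ℂˣ) with hqdef
  have hq : q = B.card * e + 1 := by
    have h1 : Λ.card = B.card * e := by
      rw [Finset.card_eq_sum_card_image S.beta Λ, Finset.sum_congr rfl hfib, Finset.sum_const,
        smul_eq_mul]
    have h2 : Λ.card + 1 = q := by
      rw [hΛ, Finset.filter_ne', Finset.card_erase_of_mem (Finset.mem_univ _), Finset.card_univ]
      have : 0 < q := Fintype.card_pos
      omega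
    omega
  have hqdvd : q ∣ Nat.card H := by
    rw [hqdef, ← Nat.card_eq_fintype_card, Nat.card_congr homEquivLinear, card_linear]
    exact Subgroup.index_dvd_card _
  -- properties of the elements of `B`
  have hBl : ∀ b ∈ B, ∃ l, l ≠ 1 ∧ S.beta l = b := fun b hb => by
    obtain ⟨l, hl, h⟩ := Finset.mem_image.mp hb
    exact ⟨l, (hΛmem l).mp hl, h⟩
  have hBgram : ∀ b ∈ B, ∀ b' ∈ B,
      Cfsg.classInner b b' = (e : ℂ) + if b = b' then 1 else 0 := by
    intro b hb b' hb'
    obtain ⟨l, hl, rfl⟩ := hBl b hb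
    obtain ⟨l', hl', rfl⟩ := hBl b' hb'
    rw [S.classInner_beta hl hl', heq]
    simp only [hR l l' hl hl']
  have hBgen : ∀ b ∈ B, Cfsg.IsGeneralizedCharacter G b := fun b hb => by
    obtain ⟨l, -, rfl⟩ := hBl b hb
    exact IsGeneralizedCharacter.indFun H (isGen_one_sub l)
  have hB1 : ∀ b ∈ B, b 1 = 0 := fun b hb => by
    obtain ⟨l, -, rfl⟩ := hBl b hb; exact S.beta_one l
  have hBone : ∀ b ∈ B, Cfsg.classInner b (fun _ => 1) = 1 := fun b hb => by
    obtain ⟨l, hl, rfl⟩ := hBl b hb
    rw [beta, classInner_indFun H _ (fun _ _ => rfl),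
      show (fun a : H => 1 - (l a : ℂ)) = (fun _ => 1) - fun a : H => (l a : ℂ) from rfl,
      classInner_sub_left, classInner_irr_self isIrrCharacter_one,
      classInner_irr_ne (isIrrCharacter_hom l) isIrrCharacter_one
        fun h => hl (coe_hom_injective (h.trans (by ext; simp))), sub_zero]
  have hBconj : ∀ b ∈ B, (fun y => conj (b y)) ∈ B ∧ (fun y => conj (b y)) ≠ b := by
    intro b hb
    obtain ⟨l, hl, rfl⟩ := hBl b hb
    have hl' : l⁻¹ ≠ 1 := fun h => hl (MonoidHom.ext fun a => by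
      simpa using DFunLike.congr_fun h a)
    rw [S.conj_beta]
    refine ⟨Finset.mem_image_of_mem _ ((hΛmem _).mpr hl'), fun h => ?_⟩
    obtain ⟨x, hx⟩ := (hR _ _ hl' hl).mp h
    have hxH : (x : G) ∈ H := by
      have hxx : ((x * x : L) : G) ∈ H := by
        by_contra hn
        refine hl (S.eq_one_of_comp_eq hn ?_)
        rw [conjH_mul, ← MonoidHom.comp_assoc, hx]
        refine MonoidHom.ext fun a => ?_
        have := DFunLike.congr_fun hx a
        simp only [MonoidHom.comp_apply, MonoidHom.inv_apply] at this ⊢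
        rw [this, inv_inv]
      obtain ⟨k, hk⟩ := hodd.of_dvd_nat (orderOf_dvd_natCard (x : G))
      have : (x : G) = ((x * x : L) : G) ^ (k + 1) := by
        rw [Subgroup.coe_mul, ← pow_two, ← pow_mul, show 2 * (k + 1) = orderOf (x : G) + 1 by omega,
          pow_succ, pow_orderOf_eq_one, one_mul]
      rw [this]; exact pow_mem hxx _
    have hfix : ∀ a : H, l a = (l a)⁻¹ := fun a => by
      have := DFunLike.congr_fun hx a
      rw [MonoidHom.comp_apply, MonoidHom.inv_apply,
        show S.conjH x a = (⟨x, hxH⟩ : H)⁻¹ * a * ⟨x, hxH⟩ from rfl, map_mul, map_mul, map_inv,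
        mul_comm (l ⟨x, hxH⟩)⁻¹, mul_assoc, inv_mul_cancel, mul_one] at this
      exact this
    refine hl (MonoidHom.ext fun a => ?_)
    have h2 : l a ^ 2 = 1 := by rw [pow_two]; nth_rw 2 [hfix a]; exact mul_inv_cancel _
    obtain ⟨k, hk⟩ := hodd.of_dvd_nat ((orderOf_map_dvd l a).trans
      ((Subgroup.orderOf_coe a).symm ▸ orderOf_dvd_natCard (a : G)))
    have h3 := orderOf_dvd_of_pow_eq_one h2
    rw [hk] at h3
    have : 2 * k + 1 ≤ 2 := Nat.le_of_dvd two_pos h3
    rw [MonoidHom.one_apply, ← orderOf_eq_one_iff, hk]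
    omega
  obtain ⟨l₀, hl₀⟩ := S.exists_hom_ne_one
  set b₀ := S.beta l₀ with hb₀def
  have hb₀ : b₀ ∈ B := Finset.mem_image_of_mem _ ((hΛmem _).mpr hl₀)
  obtain ⟨hb₁, hb₁ne⟩ := hBconj b₀ hb₀
  set b₁ : G → ℂ := fun y => conj (b₀ y) with hb₁def
  -- exceptional characters
  let τ : ↥B → G → ℂ := fun b => b₀ - b.1
  obtain ⟨ε, hε, μ, hμ, hμinj, hμτ⟩ := exists_exceptional (⟨b₀, hb₀⟩ : ↥B) τ (sub_self _)
    (fun b => IsGeneralizedCharacter.sub (hBgen b₀ hb₀) (hBgen b.1 b.2))
    (fun b => by simp [τ, hB1 b₀ hb₀, hB1 b.1 b.2]) (fun b b' hb hb' => by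
      have h0 : b₀ ≠ b.1 := fun h => hb (Subtype.ext h.symm)
      have h0' : b₀ ≠ b'.1 := fun h => hb' (Subtype.ext h.symm)
      simp only [τ]
      rw [classInner_sub_left, classInner_sub_right, classInner_sub_right, hBgram _ hb₀ _ hb₀,
        hBgram _ hb₀ _ b'.2, hBgram _ b.2 _ hb₀, hBgram _ b.2 _ b'.2, if_pos rfl, if_neg h0',
        if_neg h0.symm]
      constructor
      · intro h; rw [h, if_pos rfl]; ring
      · intro h; rw [if_neg fun h' => h (Subtype.ext h')]; ring)
  have hεε : ε * ε = 1 := by rcases hε with rfl | rfl <;> ring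
  have hεc : conj ε = ε := by rcases hε with rfl | rfl <;> simp
  set w' : ↥B → G → ℂ := fun b => ε • μ b with hw'
  set T := b₀ + w' ⟨b₀, hb₀⟩ with hT
  have hTw : ∀ b : ↥B, T - w' b = b.1 := fun b => by
    have := hμτ b
    simp only [τ, smul_sub] at this
    rw [hT, hw']
    dsimp only
    linear_combination (norm := abel) this
  have hw'gen : ∀ b, Cfsg.IsGeneralizedCharacter G (w' b) := fun b => by
    have hc := IsIrrCharacter.isCharacter (hμ b)
    rcases hε with rfl | rfl
    · simpa [hw'] using IsCharacter.isGeneralizedCharacter hc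
    · exact ⟨0, μ b, isCharacter_zero, hc, by simp [hw']⟩
  have hw'orth : ∀ b b', Cfsg.classInner (w' b) (w' b') = if b = b' then 1 else 0 := fun b b' => by
    simp only [hw', classInner_smul_left, classInner_smul_right, hεc]
    rw [← mul_assoc, hεε, one_mul]
    split_ifs with h
    · rw [h]; exact classInner_irr_self (hμ b')
    · exact classInner_irr_ne (hμ b) (hμ b') (hμinj.ne h)
  have hone : ∀ b, Cfsg.classInner (w' b) (fun _ => 1) = 0 := by
    have hdiff : ∀ b b' : ↥B, Cfsg.classInner (μ b) (fun _ => 1) =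
        Cfsg.classInner (μ b') (fun _ => 1) := by
      have : ∀ b : ↥B, Cfsg.classInner (μ b) (fun _ => 1) =
          Cfsg.classInner (μ ⟨b₀, hb₀⟩) (fun _ => 1) := fun b => by
        have h := congrArg (fun f => Cfsg.classInner f (fun _ => 1)) (hμτ b)
        simp only [τ, classInner_sub_left, classInner_smul_left, hBone b₀ hb₀, hBone b.1 b.2,
          sub_self] at h
        rcases mul_eq_zero.mp h.symm with h' | h'
        · rcases hε with rfl | rfl <;> norm_num at h'
        · exact sub_eq_zero.mp h'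
      exact fun b b' => (this b).trans (this b').symm
    intro b
    simp only [hw', classInner_smul_left]
    rw [classInner_irr_ne (hμ b) isIrrCharacter_one fun h => ?_, mul_zero]
    obtain ⟨b', hb'⟩ : ∃ b' : ↥B, b' ≠ b := by
      by_cases hb : b = ⟨b₀, hb₀⟩
      · exact ⟨⟨b₁, hb₁⟩, fun h' => hb₁ne (congrArg Subtype.val (h'.trans hb))⟩
      · exact ⟨⟨b₀, hb₀⟩, Ne.symm hb⟩
    have h2 := hdiff b b'
    rw [h, classInner_irr_self isIrrCharacter_one,
      classInner_irr_ne (hμ b') isIrrCharacter_one fun h' => hb' (hμinj (h'.trans h.symm))] at h2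
    exact one_ne_zero h2
  have hreal : ∀ y, conj (T y) = T y := by
    let s₀ : ↥B := ⟨b₀, hb₀⟩
    let s₁ : ↥B := ⟨b₁, hb₁⟩
    have hne : s₁ ≠ s₀ := fun h => hb₁ne (congrArg Subtype.val h)
    have hbar : ∀ s : ↥B, Cfsg.IsIrrCharacter G (fun y => conj (μ s y)) := fun s =>
      IsIrrCharacter.conj' (hμ s)
    have h1 := hμτ s₁
    have h2 : (fun y => conj (μ s₁ y)) - (fun y => conj (μ s₀ y)) = μ s₀ - μ s₁ := by
      funext y
      have a1 := congrFun h1 y
      have a2 := congrArg (fun z : ℂ => conj z) a1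
      simp only [τ, s₁, hb₁def, Pi.sub_apply, Pi.smul_apply, smul_eq_mul, map_sub, map_mul,
        Complex.conj_conj, hεc] at a1 a2
      simp only [Pi.sub_apply]
      linear_combination (-ε) * a1 + (-ε) * a2 - (conj (μ s₁ y) - conj (μ s₀ y) + μ s₁ y - μ s₀ y) * hεε
    have hcj : (fun y => conj (μ s₁ y)) = μ s₀ := by
      by_contra hc
      have h3 := congrArg (fun f => Cfsg.classInner f (μ s₀)) h2
      simp only [classInner_sub_left, classInner_irr_ne (hbar s₁) (hμ s₀) hc,
        classInner_irr_self (hμ s₀), classInner_irr_ne (hμ s₁) (hμ s₀) (hμinj.ne hne)] at h3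
      rw [classInner_irr (hbar s₀) (hμ s₀)] at h3
      split_ifs at h3 <;> norm_num at h3
    intro y
    have h3 : conj (μ s₀ y) = μ s₁ y := by rw [← congrFun hcj y, Complex.conj_conj]
    have a1 := congrFun h1 y
    simp only [τ, s₁, hb₁def, Pi.sub_apply, Pi.smul_apply, smul_eq_mul] at a1
    simp only [hT, hw', Pi.add_apply, Pi.smul_apply, smul_eq_mul, map_add, map_mul, hεc]
    rw [h3]
    linear_combination -a1
  have hTgen : Cfsg.IsGeneralizedCharacter G T := by
    have h := Coherence.isGen_sum (Finset.univ : Finset (Fin 2)) ![b₀, w' ⟨b₀, hb₀⟩] ![1, 1]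
      (by intro i _; fin_cases i <;> simp [hBgen b₀ hb₀, hw'gen])
    simpa [Fin.sum_univ_two, hT] using h
  have hTone : Cfsg.classInner T (fun _ => 1) = 1 := by
    rw [hT, classInner_add_left, hBone b₀ hb₀, hone, add_zero]
  obtain ⟨t, ht⟩ := IsGeneralizedCharacter.classInner_int hTgen (hw'gen ⟨b₀, hb₀⟩)
  have hwT : ∀ b, Cfsg.classInner (w' b) T = Cfsg.classInner T (w' b) := fun b => by
    obtain ⟨z, hz⟩ := IsGeneralizedCharacter.classInner_int hTgen (hw'gen b)
    rw [← classInner_conj_symm T (w' b), hz, map_intCast]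
  have hdiag : ∀ b : ↥B, Cfsg.classInner T T = (e : ℂ) + 2 * Cfsg.classInner T (w' b) := by
    intro b
    have := hBgram b.1 b.2 b.1 b.2
    rw [← hTw b, classInner_sub_left, classInner_sub_right, classInner_sub_right, hw'orth,
      hwT, if_pos rfl, if_pos rfl] at this
    linear_combination this
  have hTwt : ∀ b, Cfsg.classInner T (w' b) = (t : ℂ) := fun b => by
    have h1 := hdiag b
    rw [hdiag ⟨b₀, hb₀⟩, ht] at h1
    linear_combination (-(1 : ℂ) / 2) * h1
  have hsupp : ∀ b : ↥B, ∀ y, b.1 y ≠ 0 → InD H y := fun b y hy => by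
    obtain ⟨l, -, hl⟩ := hBl b.1 b.2
    exact S.beta_supp (by rwa [hl])
  -- sums over the conjugates of `H`
  let δ : H → ℂ := fun a => if a = 1 then 0 else 1
  have hind : ∀ y, Cfsg.indFun H δ y = if InD H y then (e : ℂ) else 0 := by
    intro y
    split_ifs with hy
    · obtain ⟨hy1, x, hx⟩ := hy
      have ha : (⟨_, hx⟩ : H) ≠ 1 := fun h => hy1 (by
        have h' : x⁻¹ * y * x = 1 := congrArg Subtype.val h
        calc y = x * (x⁻¹ * y * x) * x⁻¹ := by group
          _ = 1 := by rw [h']; simp)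
      have h1 := indFun_isClassFunction H δ y x⁻¹
      rw [inv_inv] at h1
      rw [← h1, show (x⁻¹ * y * x) = ((⟨_, hx⟩ : H) : G) from rfl, S.indFun_apply ha,
        Finset.sum_congr rfl fun z _ => show δ (S.conjH z ⟨_, hx⟩) = 1 from
          if_neg (S.conjH_ne_one z ha), Finset.sum_const, Finset.card_univ, nsmul_eq_mul,
        mul_one, ← Nat.card_eq_fintype_card, inv_mul_eq_div, heq]
    · by_cases hy1 : y = 1
      · rw [hy1, indFun_one]; simp [δ]
      · exact indFun_eq_zero_of_forall H δ fun x hx => hy ⟨hy1, x, hx⟩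
  have hsum : ∀ F : G → ℝ, (∀ g y : G, F (y * g * y⁻¹) = F g) →
      (e : ℝ) * (∑ y ∈ Finset.univ.filter (InD H), F y) =
        (Nat.card G : ℝ) / Nat.card H * ∑ a ∈ Finset.univ.filter (fun a : H => a ≠ 1), F a := by
    intro F hF
    have hFc : Cfsg.IsClassFunction G (fun y => (F y : ℂ)) := fun g y => by simp [hF]
    have h := classInner_indFun H δ hFc
    simp only [Cfsg.classInner, Complex.conj_ofReal, hind, δ] at h
    simp only [ite_mul, zero_mul, one_mul] at h
    rw [Finset.sum_ite, Finset.sum_const_zero, add_zero, Finset.sum_ite, Finset.sum_const_zero,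
      zero_add, ← Finset.mul_sum] at h
    have hG0 : (Nat.card G : ℂ) ≠ 0 := card_ne_zero
    apply Complex.ofReal_injective
    push_cast
    field_simp at h ⊢
    linear_combination h
  refine ⟨{ m := B.card, e := e, q := q, t := t, T := T, w := fun k => w' (B.equivFin.symm k)
            two_le := ?_, he := he3, hq := hq, q_dvd := hqdvd, card_L := by rw [he, mul_comm]
            genT := hTgen, genw := fun k => hw'gen _, orth := fun k k' => ?_, w_deg := ?_
            T_one := hTone, w_one := fun k => hone _, T_real := hreal, T_w := fun k => hTwt _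
            T_T := ?_, supp := fun k y hy => hsupp (B.equivFin.symm k) y ?_, vol := ?_
            dens := ?_ }⟩
  · exact Finset.one_lt_card.mpr ⟨b₁, hb₁, b₀, hb₀, hb₁ne⟩
  · rw [hw'orth]; simp only [EmbeddingLike.apply_eq_iff_eq]
  · have h : ∀ b : ↥B, w' b 1 = T 1 := fun b => by
      have := congrFun (hTw b) 1
      rw [Pi.sub_apply, hB1 b.1 b.2, sub_eq_zero] at this
      exact this.symm
    exact fun k k' => (h _).trans (h _).symm
  · rw [hdiag ⟨b₀, hb₀⟩, ht]; push_cast; ring
  · rw [← hTw (B.equivFin.symm k), Pi.sub_apply]; exact hy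
  · intro inst
    have h : (e : ℝ) * (∑ y ∈ Finset.univ.filter (InD H), (1 : ℝ)) =
        (Nat.card G : ℝ) / Nat.card H * ∑ a ∈ Finset.univ.filter (fun a : H => a ≠ 1), (1 : ℝ) :=
      Eq.trans (by congr!) (hsum (fun _ => 1) fun _ _ => rfl)
    simp only [Finset.sum_const, nsmul_eq_mul, mul_one] at h
    rw [Finset.filter_ne', Finset.card_erase_of_mem (Finset.mem_univ _), Finset.card_univ,
      ← Nat.card_eq_fintype_card, Nat.cast_sub hHpos, Nat.cast_one] at h
    have : (0 : ℝ) < e := by exact_mod_cast (by omega : 0 < e)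
    have : (0 : ℝ) < Nat.card G := Nat.cast_pos.mpr Nat.card_pos
    have : (0 : ℝ) < Nat.card H := Nat.cast_pos.mpr hHpos
    rw [div_eq_div_iff (by positivity) (by positivity), mul_comm, h]
    field_simp
  · intro inst θ hθ c hc
    have hcl : ∀ l ∈ Λ, ∀ k, S.beta l = (B.equivFin.symm k).1 →
        Cfsg.classInner (fun a : H => θ a) (fun a : H => 1 - (l a : ℂ)) = (c k : ℂ) := by
      intro l _ k hk
      rw [← classInner_indFun_right H _ hθ]
      show Cfsg.classInner θ (S.beta l) = _
      rw [hk, ← hTw, ← classInner_conj_symm, hc k, map_intCast]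
    let cB : (G → ℂ) → ℤ := fun b => if h : b ∈ B then c (B.equivFin ⟨b, h⟩) else 0
    have hcB : ∀ k, cB (B.equivFin.symm k).1 = c k := fun k => by
      simp only [cB, dif_pos (B.equivFin.symm k).2, Subtype.coe_eta, Equiv.apply_symm_apply]
    have hBsum : ∀ F : ℤ → ℂ, ∑ b ∈ B, F (cB b) = ∑ k, F (c k) := fun F => by
      rw [← Finset.sum_coe_sort B fun b => F (cB b)]
      exact Fintype.sum_equiv B.equivFin _ _ fun b => by
        rw [← hcB, Equiv.symm_apply_apply]
    set K := ∑ k, (c k : ℂ) with hK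
    set u : (H →* ℂˣ) → ℂ := fun l => (if l = 1 then 0 else -(cB (S.beta l) : ℂ)) +
      (e : ℂ) * K / (q : ℂ) with hu
    set f : H → ℂ := ∑ l, u l • fun a : H => (l a : ℂ) with hf
    have hrest : ∀ l : H →* ℂˣ, Cfsg.classInner (fun a : H => θ a) (fun a : H => (l a : ℂ)) =
        Cfsg.classInner (fun a : H => θ a) (fun _ => 1) +
          if l = 1 then 0 else -(cB (S.beta l) : ℂ) := by
      intro l
      split_ifs with h
      · subst h; simp
      · have hmem : S.beta l ∈ B := Finset.mem_image_of_mem _ ((hΛmem l).mpr h)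
        have := hcl l ((hΛmem l).mpr h) (B.equivFin ⟨_, hmem⟩) (by simp)
        rw [show cB (S.beta l) = c (B.equivFin ⟨_, hmem⟩) from dif_pos hmem, ← this,
          show (fun a : H => 1 - (l a : ℂ)) = (fun _ => 1) - fun a : H => (l a : ℂ) from rfl,
          classInner_sub_right]
        ring
    have hq0 : (q : ℂ) ≠ 0 := by rw [hq]; exact Nat.cast_ne_zero.mpr (Nat.succ_ne_zero _)
    have hsplit : ∀ F : (G → ℂ) → ℂ,
        ∑ l : H →* ℂˣ, (if l = 1 then 0 else F (S.beta l)) = (e : ℂ) * ∑ b ∈ B, F b := fun F => by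
      rw [Finset.sum_ite, Finset.sum_const_zero, zero_add]
      exact hgroup F
    have hK' : ∑ l : H →* ℂˣ, (if l = 1 then 0 else -(cB (S.beta l) : ℂ)) = -((e : ℂ) * K) := by
      rw [hsplit (fun b => -(cB b : ℂ)), Finset.sum_neg_distrib, hBsum (fun z => (z : ℂ)), hK]
      ring
    have hu0 : ∑ l, u l = 0 := by
      rw [hu, Finset.sum_add_distrib, hK', Finset.sum_const, Finset.card_univ, nsmul_eq_mul,
        ← hqdef, mul_div_assoc', mul_div_cancel_left₀ _ hq0]
      ring
    have hconj : ∀ l, conj (u l) = u l := fun l => by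
      simp only [hu, hK, map_add, map_div₀, map_mul, map_natCast, map_sum, map_intCast]
      split_ifs <;> simp
    set V := (e : ℂ) * (∑ k, (c k : ℂ) ^ 2) - ((e : ℂ) * K) ^ 2 / (q : ℂ) with hV
    have huu : ∑ l, u l * (if l = 1 then 0 else -(cB (S.beta l) : ℂ)) = V := by
      have : ∀ l : H →* ℂˣ, u l * (if l = 1 then 0 else -(cB (S.beta l) : ℂ)) =
          (if l = 1 then 0 else (cB (S.beta l) : ℂ) ^ 2) +
            (e : ℂ) * K / q * (if l = 1 then 0 else -(cB (S.beta l) : ℂ)) := fun l => by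
        simp only [hu]; split_ifs <;> ring
      rw [Finset.sum_congr rfl fun l _ => this l, Finset.sum_add_distrib, ← Finset.mul_sum, hK',
        hsplit (fun b => (cB b : ℂ) ^ 2), hBsum (fun z => (z : ℂ) ^ 2), hV]
      ring
    have hθf : Cfsg.classInner (fun a : H => θ a) f = V := by
      rw [hf, classInner_sum_right,
        Finset.sum_congr rfl fun l _ => by rw [classInner_smul_right, hconj, hrest, mul_add],
        Finset.sum_add_distrib, ← Finset.sum_mul, hu0, zero_mul, zero_add, huu]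
    have hff : Cfsg.classInner f f = V := by
      conv_lhs => arg 2; rw [hf]
      rw [classInner_sum_right]
      have : ∀ l : H →* ℂˣ, Cfsg.classInner f (fun a : H => (l a : ℂ)) = u l := fun l => by
        rw [hf, classInner_sum_left, Finset.sum_eq_single l]
        · rw [classInner_smul_left, classInner_irr_self (isIrrCharacter_hom l), mul_one]
        · intro l' _ hne
          rw [classInner_smul_left, classInner_irr_ne (isIrrCharacter_hom l') (isIrrCharacter_hom l)
            fun h => hne (coe_hom_injective h), mul_zero]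
        · exact fun h => absurd (Finset.mem_univ l) h
      rw [Finset.sum_congr rfl fun l _ => by rw [classInner_smul_right, hconj, this l]]
      have h2 : ∀ l, u l * u l = u l * (if l = 1 then 0 else -(cB (S.beta l) : ℂ)) +
          (e : ℂ) * K / q * u l := fun l => by simp only [hu]; ring
      rw [Finset.sum_congr rfl fun l _ => h2 l, Finset.sum_add_distrib, huu, ← Finset.mul_sum,
        hu0, mul_zero, add_zero]
    have hf1 : f 1 = 0 := by
      rw [hf, Finset.sum_apply]; simp [hu0]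
    let θ' : H → ℂ := fun a => if a = 1 then 0 else θ a
    have hθ'f : Cfsg.classInner θ' f = V := by
      rw [← hθf]
      simp only [Cfsg.classInner, θ']
      congr 1
      refine Finset.sum_congr rfl fun a _ => ?_
      split_ifs with h
      · subst h; simp [hf1]
      · rfl
    have hnn : 0 ≤ (Cfsg.classInner (θ' - f) (θ' - f)).re := by
      rw [classInner_self, Complex.ofReal_re]; positivity
    have hVr : V = (((e : ℝ) * (∑ k, (c k : ℝ) ^ 2) -
        ((e : ℝ) * ∑ k, (c k : ℝ)) ^ 2 / (q : ℝ) : ℝ) : ℂ) := by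
      rw [hV, hK]; push_cast; rfl
    rw [classInner_sub_left, classInner_sub_right, classInner_sub_right, hθ'f, hff,
      ← classInner_conj_symm θ' f, hθ'f, hVr, Complex.conj_ofReal, classInner_self θ'] at hnn
    simp only [Complex.sub_re, Complex.ofReal_re, sub_self, sub_zero] at hnn
    have hθ'sum : ∑ a : H, ‖θ' a‖ ^ 2 =
        ∑ a ∈ Finset.univ.filter (fun a : H => a ≠ 1), ‖θ a‖ ^ 2 := by
      rw [Finset.sum_filter]
      refine Finset.sum_congr rfl fun a _ => ?_
      by_cases h : a = 1 <;> simp [θ', h]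
    rw [hθ'sum] at hnn
    have h : (e : ℝ) * (∑ y ∈ Finset.univ.filter (InD H), ‖θ y‖ ^ 2) =
        (Nat.card G : ℝ) / Nat.card H * ∑ a ∈ Finset.univ.filter (fun a : H => a ≠ 1), ‖θ a‖ ^ 2 :=
      Eq.trans (by congr!) (hsum (fun y => ‖θ y‖ ^ 2) fun g y => by simp [hθ g y])
    have hep : (0 : ℝ) < e := by exact_mod_cast (by omega : 0 < e)
    have hgp : (0 : ℝ) < Nat.card G := Nat.cast_pos.mpr Nat.card_pos
    rw [le_div_iff₀ hgp]
    refine le_of_mul_le_mul_left (le_trans (le_of_eq ?_) (le_trans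
      (mul_le_mul_of_nonneg_left (sub_nonneg.mp hnn) hgp.le) (le_of_eq ?_))) hep
    · field_simp
    · rw [h]; ring

end Setting

end CfsgLib.Char.TICover
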