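import Mathlib

/-!
# The final inequality for trivial intersection coverings
-/

set_option autoImplicit false

namespace CfsgLib.Char.TICover

theorem sum_one_div_lt_one {ι : Type*} [Fintype ι] [DecidableEq ι] (i : ι) (e m q : ι → ℕ)
    (I O : Finset ι) (hcov : ∀ l, l ≠ i → l ∈ I ∨ l ∈ O) (hiI : i ∉ I) (hiO : i ∉ O)
    (he : ∀ l, 3 ≤ e l) (heo : ∀ l, Odd (e l)) (hmin : ∀ l, e i ≤ e l) (hm : ∀ l, 2 ≤ m l)
    (hme : ∀ l, Even (m l)) (hq : ∀ l, q l = m l * e l + 1) (hinj : Function.Injective q)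
    (hO : ∑ l ∈ O, m l + 1 ≤ e i)
    (hI : ∑ l ∈ I, (m l : ℝ) / (q l : ℝ) ≤ (e i : ℝ) / (q i : ℝ)) :
    ∑ l, (1 : ℝ) / (e l : ℝ) < 1 := by
  have hep : ∀ l, (0 : ℝ) < e l := fun l => by have := he l; exact_mod_cast (by omega : 0 < e l)
  have hqp : ∀ l, (0 : ℝ) < q l := fun l => by
    have := hq l; exact_mod_cast (by omega : 0 < q l)
  have hle : ∑ l, (1 : ℝ) / (e l : ℝ) ≤
      1 / (e i : ℝ) + ∑ l ∈ I, (1 : ℝ) / (e l : ℝ) + ∑ l ∈ O, (1 : ℝ) / (e l : ℝ) := by
    rw [← Finset.add_sum_erase Finset.univ _ (Finset.mem_univ i), add_assoc]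
    gcongr
    rw [← Finset.sum_union_inter]
    refine le_trans (Finset.sum_le_sum_of_subset_of_nonneg (fun l hl => ?_) fun l _ _ => ?_)
      (le_add_of_nonneg_right (Finset.sum_nonneg fun l _ => div_nonneg zero_le_one (hep l).le))
    · exact Finset.mem_union.mpr (hcov l (Finset.ne_of_mem_erase hl))
    · exact div_nonneg zero_le_one (hep l).le
  -- the incoming part
  have hin : ∀ Q : ℝ, 1 < Q → (∀ l ∈ I, Q ≤ (q l : ℝ)) →
      ∑ l ∈ I, (1 : ℝ) / (e l : ℝ) ≤ Q / (Q - 1) * ((e i : ℝ) / (q i : ℝ)) := by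
    intro Q hQ hQl
    refine le_trans ?_ (mul_le_mul_of_nonneg_left hI (div_nonneg (by linarith) (by linarith)))
    rw [Finset.mul_sum]
    refine Finset.sum_le_sum fun l hl => ?_
    have h1 := hQl l hl
    have hqe : (q l : ℝ) = m l * e l + 1 := by exact_mod_cast hq l
    have hml : (0 : ℝ) < m l := by have := hm l; exact_mod_cast (by omega : 0 < m l)
    rw [div_mul_div_comm, div_le_div_iff₀ (hep l) (mul_pos (by linarith) (hqp l)), hqe]
    nlinarith
  have hq_ge : ∀ l, 2 * e i + 1 ≤ q l := fun l => by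
    rw [hq l]; exact Nat.add_le_add_right (Nat.mul_le_mul (hm l) (hmin l)) 1
  have hq_geR : ∀ l ∈ I, (2 * (e i : ℝ) + 1) ≤ (q l : ℝ) := fun l _ => by exact_mod_cast hq_ge l
  have hei : (3 : ℝ) ≤ e i := by exact_mod_cast he i
  have hm4 : ∀ l, m l ≠ 2 → 4 ≤ m l := fun l h => by
    obtain ⟨k, hk⟩ := hme l
    have := hm l
    omega
  have hdist : ∀ l, l ≠ i → m i = 2 → m l = 2 → e i + 2 ≤ e l := fun l hl h2 h2' => by
    have hne : e l ≠ e i := fun h => hl (hinj (by rw [hq, hq, h2, h2', h]))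
    obtain ⟨a, ha⟩ := heo l
    obtain ⟨b, hb⟩ := heo i
    have := hmin l
    omega
  have hne_i : ∀ l ∈ I, l ≠ i := fun l hl h => hiI (h ▸ hl)
  have hOi : ∀ l ∈ O, l ≠ i := fun l hl h => hiO (h ▸ hl)
  have hOsum : ∑ l ∈ O, (m l : ℝ) ≤ (e i : ℝ) - 1 := by
    have : ((∑ l ∈ O, m l + 1 : ℕ) : ℝ) ≤ (e i : ℝ) := by exact_mod_cast hO
    push_cast at this
    linarith
  by_cases h4 : 4 ≤ m i
  · -- large multiplicity
    have h1 := hin _ (by linarith) hq_geR
    have hqi : 4 * (e i : ℝ) + 1 ≤ (q i : ℝ) := by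
      have : 4 * e i + 1 ≤ q i := by
        rw [hq i]; exact Nat.add_le_add_right (Nat.mul_le_mul_right _ h4) 1
      exact_mod_cast this
    have h2 : (2 * (e i : ℝ) + 1) / (2 * (e i : ℝ) + 1 - 1) * ((e i : ℝ) / (q i : ℝ)) ≤
        7 / 26 := by
      rw [show (2 * (e i : ℝ) + 1) / (2 * (e i : ℝ) + 1 - 1) * ((e i : ℝ) / (q i : ℝ)) =
        (2 * (e i : ℝ) + 1) / (2 * (q i : ℝ)) by field_simp; ring,
        div_le_div_iff₀ (by linarith) (by norm_num)]
      linarith
    have h3 : ∑ l ∈ O, (1 : ℝ) / (e l : ℝ) ≤ ((e i : ℝ) - 1) / (2 * e i) := by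
      refine le_trans ?_ (div_le_div_of_nonneg_right hOsum (by linarith))
      rw [Finset.sum_div]
      refine Finset.sum_le_sum fun l _ => ?_
      rw [div_le_div_iff₀ (hep l) (by linarith)]
      have : (2 : ℝ) ≤ m l := by exact_mod_cast hm l
      have : (e i : ℝ) ≤ e l := by exact_mod_cast hmin l
      nlinarith
    have h5 : 1 / (e i : ℝ) + ((e i : ℝ) - 1) / (2 * e i) ≤ 1 / 2 + 1 / 6 := by
      rw [div_add_div _ _ (by linarith) (by linarith), div_le_iff₀ (by positivity)]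
      nlinarith
    linarith
  have h2 : m i = 2 := by
    by_contra h
    exact h4 (hm4 i h)
  have hqi : (q i : ℝ) = 2 * e i + 1 := by rw [hq i, h2]; push_cast; ring
  have hout : ∀ K : ℕ, (∀ l ∈ O, m l = 2 → K ≤ e l) → K ≤ 2 * e i → 0 < K →
      ∑ l ∈ O, (1 : ℝ) / (e l : ℝ) ≤ ((e i : ℝ) - 1) / (2 * (K : ℝ)) := by
    intro K hK hK2 hK0
    have hKp : (0 : ℝ) < K := Nat.cast_pos.mpr hK0
    refine le_trans ?_ (div_le_div_of_nonneg_right hOsum (by linarith))
    rw [Finset.sum_div]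
    refine Finset.sum_le_sum fun l hl => ?_
    rw [div_le_div_iff₀ (hep l) (by linarith)]
    by_cases h : m l = 2
    · have : (K : ℝ) ≤ e l := by exact_mod_cast hK l hl h
      rw [h]; push_cast; linarith
    · have h4' : (4 : ℝ) ≤ m l := by exact_mod_cast hm4 l h
      have : (e i : ℝ) ≤ e l := by exact_mod_cast hmin l
      have : (K : ℝ) ≤ 2 * e i := by exact_mod_cast hK2
      nlinarith
  by_cases h5 : 5 ≤ e i
  · have h1 := hin _ (by linarith) hq_geR
    have h1' : (2 * (e i : ℝ) + 1) / (2 * (e i : ℝ) + 1 - 1) * ((e i : ℝ) / (q i : ℝ)) = 1 / 2 := by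
      rw [hqi]; field_simp; ring
    have h3 := hout (e i + 2) (fun l hl h => hdist l (hOi l hl) h2 h) (by omega) (by omega)
    push_cast at h3
    have h6 : 1 / (e i : ℝ) + ((e i : ℝ) - 1) / (2 * ((e i : ℝ) + 2)) < 1 / 2 := by
      have : (5 : ℝ) ≤ e i := by exact_mod_cast h5
      rw [div_add_div _ _ (by linarith) (by linarith), div_lt_iff₀ (by positivity)]
      nlinarith
    linarith
  have h3 : e i = 3 := by
    obtain ⟨k, hk⟩ := heo i
    have := he i
    omega
  have h11 : ∀ l ∈ I, 11 ≤ q l := fun l hl => by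
    rw [hq l]
    rcases Nat.lt_or_ge (e l) 5 with h | h
    · have he3 : e l = 3 := by
        obtain ⟨k, hk⟩ := heo l
        have := he l
        omega
      have : m l ≠ 2 := fun hh => hne_i l hl (hinj (by rw [hq, hq, h2, hh, h3, he3]))
      have := hm4 l this
      rw [he3]; omega
    · have := Nat.mul_le_mul (hm l) h
      omega
  have h11R : ∀ l ∈ I, (11 : ℝ) ≤ (q l : ℝ) := fun l hl => by exact_mod_cast h11 l hl
  have hI1 := hin 11 (by norm_num) h11R
  rw [hqi, h3] at hI1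
  norm_num at hI1
  have hsmall : ∑ l ∈ O, m l ≤ 2 := by omega
  rcases Finset.eq_empty_or_nonempty O with rfl | ⟨o, ho⟩
  · rw [h3] at hle
    norm_num at hle
    norm_num
    linarith
  have hOeq : O = {o} := by
    refine Finset.eq_singleton_iff_unique_mem.mpr ⟨ho, fun l hl => ?_⟩
    by_contra hne
    have h := Finset.sum_le_sum_of_subset (f := m)
      (Finset.insert_subset_iff.mpr ⟨hl, Finset.singleton_subset_iff.mpr ho⟩ : {l, o} ⊆ O)
    rw [Finset.sum_pair hne] at h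
    have := hm l; have := hm o
    omega
  subst hOeq
  rw [Finset.sum_singleton] at hle hsmall
  have hmo : m o = 2 := by have := hm o; omega
  have heo5 : 5 ≤ e o := by have := hdist o (hOi o ho) h2 hmo; omega
  rw [h3] at hle
  push_cast at hle
  by_cases h7 : 7 ≤ e o
  · have : (1 : ℝ) / (e o : ℝ) ≤ 1 / 7 :=
      one_div_le_one_div_of_le (by norm_num) (by exact_mod_cast h7)
    norm_num at hle this ⊢
    linarith
  have he5 : e o = 5 := by
    obtain ⟨k, hk⟩ := heo o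
    omega
  by_cases hoI : o ∈ I
  · -- then `o` is counted twice
    have hle' : ∑ l, (1 : ℝ) / (e l : ℝ) ≤ 1 / (e i : ℝ) + ∑ l ∈ I, (1 : ℝ) / (e l : ℝ) := by
      rw [← Finset.add_sum_erase Finset.univ _ (Finset.mem_univ i)]
      gcongr
      intro l hl
      rcases hcov l (Finset.ne_of_mem_erase hl) with h | h
      · exact h
      · rw [Finset.mem_singleton.mp h]; exact hoI
    rw [h3] at hle'
    norm_num at hle' ⊢
    linarith
  have h13 : ∀ l ∈ I, (13 : ℝ) ≤ (q l : ℝ) := fun l hl => by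
    have h1 := h11 l hl
    have hne11 : q l ≠ 11 := fun h => hoI ((hinj (h.trans (by rw [hq o, hmo, he5])) : l = o) ▸ hl)
    have hodd : Odd (q l) := by
      rw [hq l]; exact ((hme l).mul_right _).add_one
    obtain ⟨k, hk⟩ := hodd
    exact_mod_cast (by omega : 13 ≤ q l)
  have hI2 := hin 13 (by norm_num) h13
  rw [hqi, h3] at hI2
  rw [he5] at hle
  norm_num at hI2 hle ⊢
  linarith

end CfsgLib.Char.TICover
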