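import Cfsg.Agent.Lib.Char.TICover.Family
import Cfsg.Agent.Lib.Char.TICover.Arith
import Cfsg.Agent.Lib.Char.CoherenceIrr
import Cfsg.Agent.Lib.Char.FS

/-!
# A group of odd order is not covered by trivial intersection Frobenius kernels
-/

set_option autoImplicit false

open scoped ComplexConjugate

namespace CfsgLib.Char.TICover

variable {G : Type*} [Group G] [Fintype G]

/-- In odd order a nontrivial irreducible character is not real. -/
theorem conj_irr_ne (hodd : Odd (Nat.card G)) {χ : G → ℂ} (hχ : Cfsg.IsIrrCharacter G χ)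
    (h1 : χ ≠ fun _ => 1) : (fun g => conj (χ g)) ≠ χ := by
  intro hreal
  obtain ⟨n, ρ, hρ, rfl⟩ := hχ
  have hsq : Function.Bijective fun s : G => s * s := by
    refine Finite.injective_iff_bijective.mp fun a b h => ?_
    obtain ⟨k, hk⟩ := hodd
    have key : ∀ x : G, (x * x) ^ (k + 1) = x := fun x => by
      rw [← pow_two, ← pow_mul, show 2 * (k + 1) = Nat.card G + 1 by omega, pow_succ,
        pow_card_eq_one', one_mul]
    rw [← key a, ← key b]
    exact congrArg (· ^ (k + 1)) h
  have hzero : (Nat.card G : ℂ)⁻¹ * ∑ s : G, ρ.character (s * s) = 0 := by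
    rw [hsq.sum_comp fun s => ρ.character s]
    have h := classInner_irr_ne (G := G) ⟨n, ρ, hρ, rfl⟩ isIrrCharacter_one h1
    rwa [classInner_fun_one_right] at h
  obtain ⟨s, hs⟩ := (frobeniusSchur ρ).2.mp hzero
  exact hs (Complex.conj_eq_iff_im.mp (congrFun hreal s))

/-- Real virtual characters containing the principal character once have odd inner product. -/
theorem odd_classInner (hodd : Odd (Nat.card G)) {a b : G → ℂ}
    (ha : Cfsg.IsGeneralizedCharacter G a) (hb : Cfsg.IsGeneralizedCharacter G b)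
    (har : ∀ y, conj (a y) = a y) (hbr : ∀ y, conj (b y) = b y)
    (ha1 : Cfsg.classInner a (fun _ => 1) = 1) (hb1 : Cfsg.classInner b (fun _ => 1) = 1) :
    ∃ z : ℤ, Odd z ∧ Cfsg.classInner a b = (z : ℂ) := by
  classical
  choose za hza using fun χ : Cfsg.IrrCharacter G =>
    IsGeneralizedCharacter.classInner_int ha
      (IsCharacter.isGeneralizedCharacter (isCharacter_irr χ))
  choose zb hzb using fun χ : Cfsg.IrrCharacter G =>
    IsGeneralizedCharacter.classInner_int hb
      (IsCharacter.isGeneralizedCharacter (isCharacter_irr χ))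
  have hab : Cfsg.classInner a b = ((∑ χ, za χ * zb χ : ℤ) : ℂ) := by
    rw [classInner_eq_sum_irr (IsGeneralizedCharacter.isClassFunction ha), Int.cast_sum]
    exact Finset.sum_congr rfl fun χ _ => by
      rw [hza, ← classInner_conj_symm, hzb, map_intCast, Int.cast_mul]
  refine ⟨_, ?_, hab⟩
  let σ : Cfsg.IrrCharacter G → Cfsg.IrrCharacter G := fun χ =>
    ⟨fun g => conj ((χ : G → ℂ) g), IsIrrCharacter.conj' χ.2⟩
  have hσ : ∀ (f : G → ℂ) (z : Cfsg.IrrCharacter G → ℤ), (∀ y, conj (f y) = f y) →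
      (∀ χ : Cfsg.IrrCharacter G, Cfsg.classInner f (χ : G → ℂ) = (z χ : ℂ)) →
      ∀ χ, z (σ χ) = z χ := by
    intro f z hf hz χ
    have h : conj (Cfsg.classInner f (χ : G → ℂ)) = Cfsg.classInner f (σ χ : G → ℂ) := by
      simp [Cfsg.classInner, σ, map_sum, hf]
    rw [hz, hz, map_intCast, Int.cast_inj] at h
    exact h.symm
  let one : Cfsg.IrrCharacter G := ⟨fun _ => 1, isIrrCharacter_one⟩
  have hza1 : za one = 1 := by
    have := hza one; rw [ha1] at this; exact_mod_cast this.symm
  have hzb1 : zb one = 1 := by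
    have := hzb one; rw [hb1] at this; exact_mod_cast this.symm
  rw [← Finset.add_sum_erase Finset.univ _ (Finset.mem_univ one), hza1, hzb1, Int.odd_add]
  refine iff_of_true odd_one ?_
  rw [even_iff_two_dvd]
  refine (ZMod.intCast_zmod_eq_zero_iff_dvd _ 2).mp ?_
  rw [Int.cast_sum]
  refine Finset.sum_involution (fun χ _ => σ χ) (fun χ _ => ?_) (fun χ hχ _ h => ?_)
    (fun χ hχ => ?_) (fun χ _ => ?_)
  · rw [hσ a za har hza, hσ b zb hbr hzb]; exact CharTwo.add_self_eq_zero _
  · exact conj_irr_ne hodd χ.2 (fun e => Finset.ne_of_mem_erase hχ (Subtype.ext e))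
      (congrArg Subtype.val h)
  · refine Finset.mem_erase.mpr ⟨fun h => Finset.ne_of_mem_erase hχ ?_, Finset.mem_univ _⟩
    refine Subtype.ext (funext fun g => ?_)
    have h' := congrFun (congrArg Subtype.val h) g
    simp only [σ, one] at h'
    rw [← Complex.conj_conj ((χ : G → ℂ) g), h', map_one]
  · exact Subtype.ext (funext fun g => Complex.conj_conj _)

theorem mul_sub_two_nonneg (t : ℤ) {m : ℕ} (hm : 2 ≤ m) : 0 ≤ t * ((m : ℤ) * t - 2) := by
  have hm' : (2 : ℤ) ≤ m := by exact_mod_cast hm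
  rcases le_or_gt t 0 with h | h
  · exact mul_nonneg_of_nonpos_of_nonpos h (by nlinarith [mul_nonpos_of_nonneg_of_nonpos (by omega : (0 : ℤ) ≤ m) h])
  · exact mul_nonneg h.le (by nlinarith [mul_le_mul_of_nonneg_left (by omega : (1 : ℤ) ≤ t) (by omega : (0 : ℤ) ≤ m)])

theorem classInner_eq_zero_of_disjoint {f f' : G → ℂ} (h : ∀ y, f y = 0 ∨ f' y = 0) :
    Cfsg.classInner f f' = 0 := by
  simp only [Cfsg.classInner]
  rw [Finset.sum_eq_zero fun y _ => ?_, mul_zero]
  rcases h y with h | h <;> simp [h]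

/-- Signed irreducible characters whose differences are orthogonal are orthogonal. -/
theorem classInner_eq_zero_of_diff {a₀ a₁ b₀ b₁ : G → ℂ}
    (ga₀ : Cfsg.IsGeneralizedCharacter G a₀) (ga₁ : Cfsg.IsGeneralizedCharacter G a₁)
    (gb₀ : Cfsg.IsGeneralizedCharacter G b₀) (gb₁ : Cfsg.IsGeneralizedCharacter G b₁)
    (na₀ : Cfsg.classInner a₀ a₀ = 1) (na₁ : Cfsg.classInner a₁ a₁ = 1)
    (nb₀ : Cfsg.classInner b₀ b₀ = 1) (nb₁ : Cfsg.classInner b₁ b₁ = 1)
    (oa : Cfsg.classInner a₁ a₀ = 0) (ob : Cfsg.classInner b₀ b₁ = 0)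
    (da : a₀ 1 = a₁ 1) (db : b₀ 1 = b₁ 1)
    (h : Cfsg.classInner (a₀ - a₁) (b₀ - b₁) = 0) : Cfsg.classInner a₀ b₀ = 0 := by
  by_contra hne
  obtain ⟨ε, hε, he⟩ := Coherence.eq_smul_of_norm_one ga₀ na₀ gb₀ nb₀ hne
  have hεε : (ε : ℂ) * ε = 1 := by rcases hε with rfl | rfl <;> simp
  have h01 : Cfsg.classInner a₀ b₁ = 0 := by
    have : a₀ = (ε : ℂ) • b₀ := by rw [he, smul_smul, hεε, one_smul]
    rw [this, classInner_smul_left, ob, mul_zero]
  have h10 : Cfsg.classInner a₁ b₀ = 0 := by rw [he, classInner_smul_right, oa, mul_zero]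
  have h00 : Cfsg.classInner a₀ b₀ = (ε : ℂ) := by
    rw [he, classInner_smul_right, na₀, map_intCast, mul_one]
  rw [classInner_sub_left, classInner_sub_right, classInner_sub_right, h00, h01, h10] at h
  have hne' : Cfsg.classInner a₁ b₁ ≠ 0 := fun h0 => by
    rw [h0] at h; rcases hε with rfl | rfl <;> norm_num at h
  obtain ⟨ε', -, he'⟩ := Coherence.eq_smul_of_norm_one ga₁ na₁ gb₁ nb₁ hne'
  rw [he', classInner_smul_right, na₁, map_intCast, mul_one] at h
  rw [he, he', Pi.smul_apply, Pi.smul_apply, smul_eq_mul, smul_eq_mul, da] at db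
  refine Coherence.apply_one_ne_zero_of_norm_one ga₁ na₁ ?_
  linear_combination ((ε : ℂ) / 2) * db + ((ε : ℂ) / 2) * a₁ 1 * h - a₁ 1 * hεε

/-- A group of odd order is not covered by the conjugates of the kernels of trivial intersection
Frobenius subgroups. -/
theorem false_of_cover (hodd : Odd (Nat.card G)) {ι : Type*} [Fintype ι]
    [Nonempty ι] (L H : ι → Subgroup G) (hS : ∀ i, Setting (H i) (L i))
    (hcop : ∀ i j, i ≠ j → Nat.Coprime (Nat.card (H i)) (Nat.card (H j)))
    (hcover : ∀ g : G, g ≠ 1 → ∃ i, InD (H i) g) : False := by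
  classical
  have hD : ∀ i, Nonempty (Data (H i) (L i)) := fun i => by
    cases nonempty_fintype (H i); cases nonempty_fintype (L i)
    exact (hS i).exists_data hodd
  let D : ∀ i, Data (H i) (L i) := fun i => Classical.choice (hD i)
  have hdisj : ∀ i j y, InD (H i) y → InD (H j) y → i = j := by
    rintro i j y ⟨hy, x, hx⟩ ⟨-, x', hx'⟩
    by_contra hne
    have h1 : ∀ (K : Subgroup G) (z : G), z⁻¹ * y * z ∈ K → orderOf y ∣ Nat.card K := by
      intro K z hz
      have := Subgroup.orderOf_dvd_natCard K hz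
      rwa [show z⁻¹ * y * z = MulAut.conj z⁻¹ y by simp, MulEquiv.orderOf_eq] at this
    exact hy (orderOf_eq_one_iff.mp
      (Nat.eq_one_of_dvd_coprimes (hcop i j hne) (h1 _ _ hx) (h1 _ _ hx')))
  have hbeta : ∀ i j, i ≠ j → ∀ k k',
      Cfsg.classInner ((D i).T - (D i).w k) ((D j).T - (D j).w k') = 0 := by
    intro i j hne k k'
    refine classInner_eq_zero_of_disjoint fun y => ?_
    by_contra hc
    push Not at hc
    exact hne (hdisj i j y ((D i).supp k y hc.1) ((D j).supp k' y hc.2))
  have hcross : ∀ i j, i ≠ j → ∀ k k', Cfsg.classInner ((D i).w k) ((D j).w k') = 0 := by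
    intro i j hne k k'
    haveI : Nontrivial (Fin (D i).m) := Fin.nontrivial_iff_two_le.mpr (D i).two_le
    haveI : Nontrivial (Fin (D j).m) := Fin.nontrivial_iff_two_le.mpr (D j).two_le
    obtain ⟨k₂, hk₂⟩ := exists_ne k
    obtain ⟨k₂', hk₂'⟩ := exists_ne k'
    refine classInner_eq_zero_of_diff ((D i).genw k) ((D i).genw k₂) ((D j).genw k')
      ((D j).genw k₂') (by rw [(D i).orth, if_pos rfl]) (by rw [(D i).orth, if_pos rfl])
      (by rw [(D j).orth, if_pos rfl]) (by rw [(D j).orth, if_pos rfl])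
      (by rw [(D i).orth, if_neg hk₂]) (by rw [(D j).orth, if_neg hk₂'.symm])
      ((D i).w_deg k k₂) ((D j).w_deg k' k₂') ?_
    rw [show (D i).w k - (D i).w k₂ = ((D i).T - (D i).w k₂) - ((D i).T - (D i).w k) by abel,
      show (D j).w k' - (D j).w k₂' = ((D j).T - (D j).w k₂') - ((D j).T - (D j).w k') by abel]
    simp only [classInner_sub_left ((D i).T - (D i).w k₂), classInner_sub_right _ ((D j).T - (D j).w k₂'),
      hbeta i j hne, sub_self]
  have hk0 : ∀ i, Nonempty (Fin (D i).m) := fun i =>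
    ⟨⟨0, by have := (D i).two_le; omega⟩⟩
  let k0 : ∀ i, Fin (D i).m := fun i => Classical.choice (hk0 i)
  choose c hc using fun i j => IsGeneralizedCharacter.classInner_int (D i).genT ((D j).genw (k0 j))
  have hc' : ∀ i j, i ≠ j → (∀ k, Cfsg.classInner (D i).T ((D j).w k) = (c i j : ℂ)) ∧
      Cfsg.classInner (D i).T (D j).T = ((c i j + c j i : ℤ) : ℂ) := by
    intro i j hne
    have h := fun k k' => hbeta i j hne k k'
    simp only [classInner_sub_left, classInner_sub_right, hcross i j hne, sub_zero] at h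
    have hw : ∀ k, Cfsg.classInner ((D i).w k) (D j).T =
        conj (Cfsg.classInner (D j).T ((D i).w k)) := fun k => (classInner_conj_symm _ _).symm
    have e0 := h (k0 i) (k0 j)
    rw [hw, hc, hc, map_intCast] at e0
    refine ⟨fun k => ?_, by push_cast; linear_combination e0⟩
    have e1 := h (k0 i) k
    rw [hw, hc, map_intCast] at e1
    linear_combination e0 - e1
  have hparity : ∀ i j, i ≠ j → c i j ≠ 0 ∨ c j i ≠ 0 := by
    intro i j hne
    obtain ⟨z, hz, hz'⟩ := odd_classInner hodd (D i).genT (D j).genT (D i).T_real (D j).T_real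
      (D i).T_one (D j).T_one
    rw [(hc' i j hne).2, Int.cast_inj] at hz'
    by_contra hh
    push Not at hh
    rw [← hz', hh.1, hh.2] at hz
    exact absurd hz (by simp)
  obtain ⟨i, -, hmin⟩ := Finset.exists_min_image Finset.univ (fun l => (D l).e)
    Finset.univ_nonempty
  have hLo : ∀ l, Odd (Nat.card (L l)) := fun l =>
    hodd.of_dvd_nat (Subgroup.card_subgroup_dvd_card _)
  have heo : ∀ l, Odd (D l).e := fun l =>
    (hLo l).of_dvd_nat (Dvd.intro _ (D l).card_L)
  have hqo : ∀ l, Odd (D l).q := fun l =>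
    (hodd.of_dvd_nat (Subgroup.card_subgroup_dvd_card (H l))).of_dvd_nat (D l).q_dvd
  have hme : ∀ l, Even (D l).m := fun l => by
    have h := hqo l
    rw [(D l).hq, Nat.odd_add_one, Nat.not_odd_iff_even, Nat.even_mul] at h
    exact h.resolve_right (Nat.not_even_iff_odd.mpr (heo l))
  have hqinj : Function.Injective fun l => (D l).q := fun a b h => by
    by_contra hne
    have h1 := Nat.eq_one_of_dvd_coprimes (hcop a b hne) (D a).q_dvd
      ((show (D a).q = (D b).q from h) ▸ (D b).q_dvd)
    have := (D a).hq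
    have : 1 ≤ (D a).m * (D a).e :=
      Nat.mul_pos (by have := (D a).two_le; omega) (by have := (D a).he; omega)
    omega
  set O := Finset.univ.filter (fun l => l ≠ i ∧ c i l ≠ 0) with hOdef
  set I := Finset.univ.filter (fun l => l ≠ i ∧ c l i ≠ 0) with hIdef
  -- Bessel for the real character of the chosen family
  have hO : ∑ l ∈ O, (D l).m + 1 ≤ (D i).e := by
    let v : Option ((l : ι) × Fin (D l).m) → G → ℂ := fun x =>
      x.elim (fun _ => 1) fun p => (D p.1).w p.2
    let z : Option ((l : ι) × Fin (D l).m) → ℤ := fun x =>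
      x.elim 1 fun p => if p.1 = i then (D i).t else c i p.1
    obtain ⟨hle, -⟩ := Coherence.bessel Finset.univ v (fun _ => 1) (fun _ _ => Nat.one_pos)
      (fun x _ y _ => by
        rcases x with _ | ⟨a, k⟩ <;> rcases y with _ | ⟨b, k'⟩ <;>
          simp only [v, Option.elim, Nat.cast_one]
        · rw [classInner_irr_self isIrrCharacter_one, if_pos trivial]
        · rw [← classInner_conj_symm, (D b).w_one, map_zero, if_neg (by simp)]
        · rw [(D a).w_one, if_neg (by simp)]
        · by_cases hab : a = b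
          · subst hab
            rw [(D a).orth]
            simp
          · rw [hcross a b hab, if_neg (by simp [hab])])
      (D i).T z (fun x _ => by
        rcases x with _ | ⟨l, k⟩ <;> simp only [v, z, Option.elim]
        · rw [(D i).T_one, Int.cast_one]
        · split_ifs with h
          · subst h; exact (D l).T_w k
          · exact (hc' i l (Ne.symm h)).1 k)
    rw [(D i).T_T, Fintype.sum_option, Fintype.sum_sigma] at hle
    simp only [z, Option.elim, Int.cast_one, one_pow, Nat.cast_one, div_one, Complex.intCast_re,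
      Finset.sum_const, Finset.card_univ, Fintype.card_fin, nsmul_eq_mul] at hle
    rw [← Finset.add_sum_erase Finset.univ _ (Finset.mem_univ i), if_pos rfl] at hle
    have hsum : (∑ l ∈ O, ((D l).m : ℝ)) ≤ ∑ l ∈ Finset.univ.erase i,
        ((D l).m : ℝ) * (((if l = i then (D i).t else c i l : ℤ)) : ℝ) ^ 2 := by
      refine le_trans (Finset.sum_le_sum fun l hl => ?_) (Finset.sum_le_sum_of_subset_of_nonneg
        (fun l hl => ?_) fun l _ _ => by positivity)
      · simp only [hOdef, Finset.mem_filter, Finset.mem_univ, true_and] at hl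
        rw [if_neg hl.1]
        refine le_mul_of_one_le_right (Nat.cast_nonneg _) ?_
        have : (1 : ℤ) ≤ c i l ^ 2 := by
          rcases lt_or_gt_of_ne hl.2 with h | h <;> nlinarith
        exact_mod_cast this
      · simp only [hOdef, Finset.mem_filter, Finset.mem_univ, true_and] at hl
        exact Finset.mem_erase.mpr ⟨hl.1, Finset.mem_univ _⟩
    have hm2 : (0 : ℤ) ≤ (D i).t * (((D i).m : ℤ) * (D i).t - 2) :=
      mul_sub_two_nonneg _ (D i).two_le
    have hm2R : (0 : ℝ) ≤ ((D i).t : ℝ) * (((D i).m : ℝ) * (D i).t - 2) := by exact_mod_cast hm2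
    have : ((∑ l ∈ O, (D l).m + 1 : ℕ) : ℝ) ≤ ((D i).e : ℝ) := by
      push_cast at hle hsum ⊢
      nlinarith
    exact_mod_cast this
  have hnorm : ∀ θ : G → ℂ, Cfsg.classInner θ θ = 1 →
      (∑ l, (∑ y ∈ Finset.univ.filter (InD (H l)), ‖θ y‖ ^ 2) / (Nat.card G : ℝ)) ≤ 1 := by
    intro θ h
    rw [classInner_self, Complex.ofReal_eq_one] at h
    rw [← Finset.sum_div, ← h, inv_mul_eq_div]
    refine div_le_div_of_nonneg_right ?_ (Nat.cast_nonneg _)
    rw [← Finset.sum_biUnion (fun a _ b _ hab => Finset.disjoint_left.mpr fun y hy hy' =>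
      hab (hdisj a b y (Finset.mem_filter.mp hy).2 (Finset.mem_filter.mp hy').2))]
    exact Finset.sum_le_sum_of_subset_of_nonneg (Finset.subset_univ _) fun y _ _ => by positivity
  have hI : ∑ l ∈ I, ((D l).m : ℝ) / ((D l).q : ℝ) ≤ ((D i).e : ℝ) / ((D i).q : ℝ) := by
    set θ := (D i).w (k0 i) with hθ
    have hθc : Cfsg.IsClassFunction G θ :=
      IsGeneralizedCharacter.isClassFunction ((D i).genw (k0 i))
    have h1 := hnorm θ (by rw [hθ, (D i).orth, if_pos rfl])
    have hown : 1 - ((D i).e : ℝ) / ((D i).q : ℝ) ≤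
        (∑ y ∈ Finset.univ.filter (InD (H i)), ‖θ y‖ ^ 2) / (Nat.card G : ℝ) := by
      refine le_trans ?_ ((D i).dens θ hθc (fun k => (D i).t - if k = k0 i then 1 else 0) fun k => ?_)
      · push_cast
        have e1 : ∀ k, (((D i).t : ℝ) - if k = k0 i then (1 : ℝ) else 0) ^ 2 =
            ((D i).t : ℝ) ^ 2 + if k = k0 i then 1 - 2 * ((D i).t : ℝ) else 0 := fun k => by
          split_ifs <;> ring
        rw [Finset.sum_congr rfl fun k _ => e1 k, Finset.sum_add_distrib, Finset.sum_sub_distrib,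
          Finset.sum_const, Finset.sum_const, Finset.sum_ite_eq', Finset.sum_ite_eq',
          Finset.card_univ, Fintype.card_fin, if_pos (Finset.mem_univ _),
          if_pos (Finset.mem_univ _)]
        simp only [nsmul_eq_mul]
        have hq : ((D i).q : ℝ) = (D i).m * (D i).e + 1 := by exact_mod_cast (D i).hq
        have hqp : (0 : ℝ) < (D i).q := by rw [hq]; positivity
        have hm : (2 : ℝ) ≤ (D i).m := by exact_mod_cast (D i).two_le
        have hm2 : (0 : ℝ) ≤ ((D i).t : ℝ) * (((D i).m : ℝ) * (D i).t - 2) := by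
          have : (0 : ℤ) ≤ (D i).t * (((D i).m : ℤ) * (D i).t - 2) := mul_sub_two_nonneg _ (D i).two_le
          exact_mod_cast this
        rw [div_eq_mul_inv, div_eq_mul_inv]
        have hinv : ((D i).q : ℝ) * ((D i).q : ℝ)⁻¹ = 1 := mul_inv_cancel₀ hqp.ne'
        rw [hq] at hinv ⊢
        nlinarith [mul_nonneg hm2 (inv_nonneg.mpr (le_of_lt (hq ▸ hqp)))]
      · rw [classInner_sub_left, hθ, (D i).T_w, (D i).orth]
        split_ifs <;> simp
    have hother : ∀ l ∈ Finset.univ.erase i, ((c l i : ℝ) ^ 2) * ((D l).m : ℝ) / ((D l).q : ℝ) ≤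
        (∑ y ∈ Finset.univ.filter (InD (H l)), ‖θ y‖ ^ 2) / (Nat.card G : ℝ) := by
      intro l hl
      have hli := Finset.ne_of_mem_erase hl
      refine le_trans (le_of_eq ?_) ((D l).dens θ hθc (fun _ => c l i) fun k => ?_)
      · simp only [Finset.sum_const, Finset.card_univ, Fintype.card_fin, nsmul_eq_mul]
        have hq : ((D l).q : ℝ) = (D l).m * (D l).e + 1 := by exact_mod_cast (D l).hq
        have : (0 : ℝ) < (D l).q := by rw [hq]; positivity
        field_simp
        rw [hq]; ring
      · rw [classInner_sub_left, hθ, (hc' l i hli).1, hcross l i hli, sub_zero]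
    rw [← Finset.add_sum_erase Finset.univ _ (Finset.mem_univ i)] at h1
    have h2 := Finset.sum_le_sum hother
    have h3 : ∑ l ∈ I, ((D l).m : ℝ) / ((D l).q : ℝ) ≤
        ∑ l ∈ Finset.univ.erase i, ((c l i : ℝ) ^ 2) * ((D l).m : ℝ) / ((D l).q : ℝ) := by
      refine le_trans (Finset.sum_le_sum fun l hl => ?_) (Finset.sum_le_sum_of_subset_of_nonneg
        (fun l hl => ?_) fun l _ _ => by positivity)
      · simp only [hIdef, Finset.mem_filter, Finset.mem_univ, true_and] at hl
        refine div_le_div_of_nonneg_right (le_mul_of_one_le_left (Nat.cast_nonneg _) ?_)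
          (Nat.cast_nonneg _)
        have : (1 : ℤ) ≤ c l i ^ 2 := by
          rcases lt_or_gt_of_ne hl.2 with h | h <;> nlinarith
        exact_mod_cast this
      · simp only [hIdef, Finset.mem_filter, Finset.mem_univ, true_and] at hl
        exact Finset.mem_erase.mpr ⟨hl.1, Finset.mem_univ _⟩
    linarith
  have hlt := sum_one_div_lt_one i (fun l => (D l).e) (fun l => (D l).m) (fun l => (D l).q) I O
    (fun l hl => by
      rcases hparity i l (Ne.symm hl) with h | h
      · exact Or.inr (by simp [hOdef, hl, h])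
      · exact Or.inl (by simp [hIdef, hl, h]))
    (by simp [hIdef]) (by simp [hOdef]) (fun l => (D l).he) heo
    (fun l => hmin l (Finset.mem_univ _)) (fun l => (D l).two_le) hme (fun l => (D l).hq) hqinj
    hO hI
  -- the class equation
  have hgp : (0 : ℝ) < Nat.card G := Nat.cast_pos.mpr Nat.card_pos
  have htot : (∑ l, ((Finset.univ.filter (InD (H l))).card : ℝ) / (Nat.card G : ℝ)) =
      1 - 1 / (Nat.card G : ℝ) := by
    have hU : Finset.univ.biUnion (fun l => Finset.univ.filter (InD (H l))) =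
        Finset.univ.erase (1 : G) := by
      ext y
      simp only [Finset.mem_biUnion, Finset.mem_filter, Finset.mem_univ, true_and,
        Finset.mem_erase, and_true]
      exact ⟨fun ⟨l, h⟩ => h.1, fun h => hcover y h⟩
    rw [← Finset.sum_div, ← Nat.cast_sum, ← Finset.card_biUnion (fun a _ b _ hab =>
      Finset.disjoint_left.mpr fun y hy hy' =>
        hab (hdisj a b y (Finset.mem_filter.mp hy).2 (Finset.mem_filter.mp hy').2)), hU,
      Finset.card_erase_of_mem (Finset.mem_univ _), Finset.card_univ, ← Nat.card_eq_fintype_card,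
      Nat.cast_sub Nat.card_pos, Nat.cast_one, sub_div, div_self hgp.ne']
  have hterm : ∀ l, (1 : ℝ) / ((D l).e : ℝ) = 1 / ((Nat.card (L l) : ℕ) : ℝ) +
      ((Finset.univ.filter (InD (H l))).card : ℝ) / (Nat.card G : ℝ) := fun l => by
    rw [(D l).vol, ← (D l).card_L]
    have : (0 : ℝ) < (D l).e := by
      have := (D l).he; exact_mod_cast (by omega : 0 < (D l).e)
    have : (0 : ℝ) < Nat.card (H l) := Nat.cast_pos.mpr Nat.card_pos
    push_cast
    field_simp
    ring
  rw [Finset.sum_congr rfl fun l _ => hterm l, Finset.sum_add_distrib, htot] at hlt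
  have h1 : (1 : ℝ) / (Nat.card G : ℝ) ≤ 1 / ((Nat.card (L i) : ℕ) : ℝ) :=
    one_div_le_one_div_of_le (Nat.cast_pos.mpr Nat.card_pos)
      (by exact_mod_cast Subgroup.card_le_card_group (L i))
  have h2 : 1 / ((Nat.card (L i) : ℕ) : ℝ) ≤ ∑ l, 1 / ((Nat.card (L l) : ℕ) : ℝ) :=
    Finset.single_le_sum (f := fun l => 1 / ((Nat.card (L l) : ℕ) : ℝ))
      (fun l _ => by positivity) (Finset.mem_univ i)
  linarith

end CfsgLib.Char.TICover
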